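import Cfsg.Agent.H844.NB.FiTwo
import Cfsg.Agent.R08.FiTwentyFour
import Cfsg.Agent.R08.TetFi24C
import Cfsg.Agent.CTwoTab.FiTF

/-!
# `NoBad 3` for `Fi24'` (helper844, for S3877)

`even_Fi24` : every element of order 3 of `Fi24'` commutes with an involution. If `x` commutes with a transposition this
is the result for `Fi23`; otherwise Benson's lemma for the rank three graph (eigenvalue `-81`) shows that the number of
transpositions `d` commuting with `d^x` is even and not zero; the products `d d^x d^(x²)` are involutions of `C(x)` outside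
`Fi24'`; if `|C(x) ∩ Fi24'|` were odd their number would be odd.
-/

set_option autoImplicit false
set_option linter.unusedSectionVars false

namespace Cfsg.Agent.H844.NB

open Subgroup Cfsg Cfsg.Spor Cfsg.Agent.H470
open Cfsg.Agent.R08.FiTwentyFour (L facts conj sq even odd three)
open Cfsg.Agent.Fischer.Abstract Cfsg.Agent.LThreeM.SrgFix
open Cfsg.Agent.Fischer.Fi24Class (gen)

/-! ### The parameters -/

/-- the transpositions commuting with `l` and `b0` -/
theorem ncard_two : {c : Fi24 | c ∈ L ∧ c ≠ gen .l ∧ c ≠ facts.b0 ∧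
    c * gen .l = gen .l * c ∧ c * facts.b0 = facts.b0 * c}.ncard = 3510 := by
  have h1 : (R08.FiTwentyFour.Eab (gen .l) facts.b0).ncard = 3510 := by
    rw [← facts.e0_image, Set.ncard_image_of_injective _ facts.e0.injective, LThreeM.FiThree.ncard_S]
  rw [← h1]
  have hll : gen .l * gen .l = (1 : Fi24) := Fischer.Fi24Class.gen_sq _
  refine Set.ncard_congr (fun c hc => (⟨gen .l * c, ?_⟩ : R08.FiTwentyFour.Cab (gen .l) facts.b0)) ?_ ?_ ?_
  · obtain ⟨h2, h3, h4, h5, h6⟩ := hc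
    rw [R08.FiTwentyFour.mem_Cab]
    refine ⟨?_, ?_, ?_⟩
    · rw [← R08.FiTwentyFour.mem_commutator_iff]
      exact even (R08.FiTwentyFour.gen_mem_L .l) h2
    · rw [mul_assoc, h5]
    · rw [mul_assoc, h6, ← mul_assoc, ← facts.b0_spec.2.2, mul_assoc]
  · rintro c ⟨h2, h3, h4, h5, h6⟩
    exact ⟨c, h2, h3, h4, h5, h6, rfl⟩
  · intro a b ha hb h
    exact mul_left_cancel (congrArg Subtype.val h)
  · rintro x ⟨c, h2, h3, h4, h5, h6, h7⟩
    exact ⟨c, ⟨h2, h3, h4, h5, h6⟩, Subtype.ext h7.symm⟩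

section

variable {H : Subgroup Fi24} (R : Rank3 Fi24 (Fi24 ⧸ H)) (hL : Set.range R.t = L)

include hL

theorem t_mem (x : Fi24 ⧸ H) : R.t x ∈ L := by rw [← hL]; exact ⟨x, rfl⟩

theorem nb_card24 : (nb R R.x0).ncard = 31671 := by
  rw [← R08.FiTwentyFour.ncard_commuting (t_mem R hL R.x0), ← Set.ncard_image_of_injective _ R.t_injective]
  congr 1
  ext c
  constructor
  · rintro ⟨y, ⟨h1, h2⟩, rfl⟩
    exact ⟨t_mem R hL y, fun h => h1 (R.t_injective h).symm, (show R.t R.x0 * R.t y = R.t y * R.t R.x0 from h2).symm⟩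
  · rintro ⟨h1, h2, h3⟩
    rw [← hL] at h1
    obtain ⟨y, rfl⟩ := h1
    exact ⟨y, ⟨fun h => h2 (by rw [h]), (show R.t R.x0 * R.t y = R.t y * R.t R.x0 from h3.symm)⟩, rfl⟩

theorem cn_c24 (h0 : R.t R.x0 = gen .l) : (cn R R.x0 R.c).ncard = 3510 := by
  obtain ⟨hb1, hb2, hb3⟩ := facts.b0_spec
  have hb1' := hb1
  rw [← hL] at hb1'
  obtain ⟨y, hy⟩ := hb1'
  have hadj : Adj R R.x0 y := by
    refine ⟨?_, ?_⟩
    · rintro rfl
      exact hb2 (hy.symm.trans h0)
    · show R.t R.x0 * R.t y = R.t y * R.t R.x0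
      rw [h0, hy, hb3]
  rw [← ncard_cn_adj R hadj, ← ncard_two, ← Set.ncard_image_of_injective _ R.t_injective]
  congr 1
  ext c
  constructor
  · rintro ⟨z, ⟨⟨h1, h2⟩, h3, h4⟩, rfl⟩
    have h2' : R.t R.x0 * R.t z = R.t z * R.t R.x0 := h2
    have h4' : R.t y * R.t z = R.t z * R.t y := h4
    rw [h0] at h2'
    rw [hy] at h4'
    refine ⟨t_mem R hL z, fun h => h1 ?_, fun h => h3 ?_, h2'.symm, h4'.symm⟩
    · apply R.t_injective; rw [h0, h]
    · apply R.t_injective; rw [hy, h]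
  · rintro ⟨h1, h2, h3, h4, h5⟩
    rw [← hL] at h1
    obtain ⟨z, rfl⟩ := h1
    refine ⟨z, ⟨⟨?_, ?_⟩, ?_, ?_⟩, rfl⟩
    · rintro rfl; exact h2 h0
    · show R.t R.x0 * R.t z = R.t z * R.t R.x0
      rw [h0, h4]
    · rintro rfl; exact h3 hy
    · show R.t y * R.t z = R.t z * R.t y
      rw [hy, h5]

theorem card_X24 : Nat.card (Fi24 ⧸ H) = 306936 := by
  rw [← R08.FiTwentyFour.ncard_L, ← hL, ← Nat.card_coe_set_eq, R.card_range]

theorem cn_b24 [Finite (Fi24 ⧸ H)] (h0 : R.t R.x0 = gen .l) : (cn R R.x0 R.b).ncard = 3240 := by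
  have h := LThreeM.FiThree.mu_eq R (nb_card24 R hL) (cn_c24 R hL h0) rfl
  rw [card_X24 R hL] at h
  have h2 : (((cn R R.x0 R.b).ncard : ℕ) : ℚ) = 3240 := by
    push_cast at h
    linarith
  exact_mod_cast h2

/-- the number of the points mapped to a neighbour -/
theorem count24 [Finite (Fi24 ⧸ H)] (h0 : R.t R.x0 = gen .l) {g : Fi24} (hg : g ^ 3 = 1)
    (hf : ∀ x : Fi24 ⧸ H, g • x ≠ x) :
    Even ({x : Fi24 ⧸ H | Adj R x (g • x)} : Set (Fi24 ⧸ H)).ncard ∧
      ({x : Fi24 ⧸ H | Adj R x (g • x)} : Set (Fi24 ⧸ H)).Nonempty := by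
  obtain ⟨z, hz⟩ := count R (nb_card24 R hL) (cn_c24 R hL h0) (cn_b24 R hL h0) (s := -81) (by norm_num) (by norm_num)
    (n := 3) (by norm_num) hg
  have e1 : ({x : Fi24 ⧸ H | g • x = x} : Set (Fi24 ⧸ H)) = ∅ := by
    ext x
    exact ⟨fun h => absurd h (hf x), fun h => absurd h (Set.notMem_empty x)⟩
  rw [e1, Set.ncard_empty] at hz
  push_cast at hz
  constructor
  · rw [Nat.even_iff]
    omega
  · by_contra hcon
    rw [Set.not_nonempty_iff_eq_empty] at hcon
    rw [hcon, Set.ncard_empty] at hz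
    push_cast at hz
    omega

end

/-! ### Counting argument -/

/-- a set of involutions of odd size: all conjugates of `s0` under a subgroup of odd order -/
theorem odd_of_conj {G : Type*} [Group G] [Finite G] {O : Subgroup G} (hO : Odd (Nat.card O)) {I : Set G} {s0 : G}
    (hI : I = {s | ∃ c ∈ O, s = c * s0 * c⁻¹}) : Odd I.ncard := by
  let _ : MulAction ↥O G := MulAction.compHom G (MulAut.conj.comp O.subtype)
  have h1 : I = MulAction.orbit ↥O s0 := by
    rw [hI]
    ext s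
    constructor
    · rintro ⟨c, hc, rfl⟩
      exact ⟨⟨c, hc⟩, rfl⟩
    · rintro ⟨c, rfl⟩
      exact ⟨c, c.2, rfl⟩
  rw [h1, ← MulAction.index_stabilizer]
  exact hO.of_dvd_nat (Subgroup.index_dvd_card _)

/-- two involutions whose product has odd order -/
theorem conj_of_odd {G : Type*} [Group G] {s t : G} (hs : s * s = 1) (ht : t * t = 1)
    (ho : Odd (orderOf (s * t))) : ∃ k : ℕ, s = (s * t) ^ k * t * ((s * t) ^ k)⁻¹ := by
  obtain ⟨k, hk⟩ := ho
  refine ⟨k + 1, ?_⟩
  have h1 : t * (s * t)⁻¹ * t⁻¹ = s * t := by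
    have h2 : t⁻¹ = t := inv_eq_of_mul_eq_one_left ht
    have h3 : s⁻¹ = s := inv_eq_of_mul_eq_one_left hs
    rw [mul_inv_rev, h2, h3]
    calc t * (t * s) * t = (t * t) * (s * t) := by group
      _ = s * t := by rw [ht, one_mul]
  have h2 : t * ((s * t) ^ (k + 1))⁻¹ = (s * t) ^ (k + 1) * t := by
    have h3 : t * ((s * t) ^ (k + 1))⁻¹ * t⁻¹ = (s * t) ^ (k + 1) := by
      rw [← inv_pow, ← conj_pow, h1]
    calc t * ((s * t) ^ (k + 1))⁻¹ = (t * ((s * t) ^ (k + 1))⁻¹ * t⁻¹) * t := by group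
      _ = (s * t) ^ (k + 1) * t := by rw [h3]
  rw [mul_assoc, h2, ← mul_assoc, ← pow_add]
  have h4 : (s * t) ^ (k + 1 + (k + 1)) = s * t := by
    have e : k + 1 + (k + 1) = orderOf (s * t) + 1 := by omega
    rw [e, pow_succ, pow_orderOf_eq_one, one_mul]
  rw [h4]
  calc s = s * (t * t) := by rw [ht, mul_one]
    _ = s * t * t := by group

/-! ### The orbits of commuting transpositions -/

section

variable {H : Subgroup Fi24} (R : Rank3 Fi24 (Fi24 ⧸ H))

/-- the product of the transpositions of an orbit -/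
def fo (x : Fi24) (y : Fi24 ⧸ H) : Fi24 := R.t y * R.t (x • y) * R.t (x • x • y)

variable {x : Fi24} (hx : x ^ 3 = 1) {y : Fi24 ⧸ H}

include hx in
theorem smul3 (y : Fi24 ⧸ H) : x • x • x • y = y := by
  rw [← mul_smul, ← mul_smul, ← pow_three', hx, one_smul]

include hx in
theorem adj_all (h : Adj R y (x • y)) : Adj R y (x • y) ∧ Adj R (x • y) (x • x • y) ∧ Adj R (x • x • y) y := by
  have h23 : Adj R (x • y) (x • x • y) := (adj_smul R x _ _).2 h
  refine ⟨h, h23, ?_⟩
  have h' := (adj_smul R x _ _).2 h23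
  rwa [smul3 hx] at h'

include hx in
theorem fo_smul (h : Adj R y (x • y)) : fo R x (x • y) = fo R x y := by
  obtain ⟨h1, h2, h3⟩ := adj_all R hx h
  have c12 : R.t y * R.t (x • y) = R.t (x • y) * R.t y := h1.2
  have c31 : R.t (x • x • y) * R.t y = R.t y * R.t (x • x • y) := h3.2
  unfold fo
  rw [smul3 hx, mul_assoc, c31, ← mul_assoc, ← c12]

theorem fo_conj (c : Fi24) (hc : c * x = x * c) : fo R x (c • y) = c * fo R x y * c⁻¹ := by
  unfold fo
  have e1 : x • c • y = c • x • y := by rw [← mul_smul, ← mul_smul, hc]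
  have e2 : x • x • c • y = c • x • x • y := by
    rw [e1, ← mul_smul x c, ← mul_smul c x, hc]
  rw [e2, e1, R.map_smul, R.map_smul c, R.map_smul c]
  group

include hx in
theorem fo_comm (h : Adj R y (x • y)) : x * fo R x y = fo R x y * x := by
  have h1 := fo_conj R (x := x) (y := y) x rfl
  rw [fo_smul R hx h] at h1
  exact (eq_mul_inv_iff_mul_eq.1 h1).symm

include hx in
theorem fo_sq (h : Adj R y (x • y)) : fo R x y * fo R x y = 1 := by
  obtain ⟨h1, h2, h3⟩ := adj_all R hx h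
  have c12 : R.t y * R.t (x • y) = R.t (x • y) * R.t y := h1.2
  have c23 : R.t (x • y) * R.t (x • x • y) = R.t (x • x • y) * R.t (x • y) := h2.2
  have c13 : R.t y * R.t (x • x • y) = R.t (x • x • y) * R.t y := (R.com_symm h3.2)
  unfold fo
  calc R.t y * R.t (x • y) * R.t (x • x • y) * (R.t y * R.t (x • y) * R.t (x • x • y))
      = R.t y * R.t (x • y) * (R.t (x • x • y) * R.t y) * R.t (x • y) * R.t (x • x • y) := by group
    _ = R.t y * (R.t (x • y) * R.t y) * (R.t (x • x • y) * R.t (x • y)) * R.t (x • x • y) := by rw [← c13]; group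
    _ = (R.t y * R.t y) * (R.t (x • y) * R.t (x • y)) * (R.t (x • x • y) * R.t (x • x • y)) := by
      rw [← c12, ← c23]; group
    _ = 1 := by rw [R.sq', R.sq', R.sq']; group

variable (hL : Set.range R.t = L)

include hx hL in
theorem fo_eq {y' : Fi24 ⧸ H} (h : Adj R y (x • y)) (h' : Adj R y' (x • y')) (e : fo R x y = fo R x y') :
    y' = y ∨ y' = x • y ∨ y' = x • x • y := by
  obtain ⟨h1, h2, h3⟩ := adj_all R hx h
  obtain ⟨h1', h2', h3'⟩ := adj_all R hx h'
  have inj : ∀ {a b : Fi24 ⧸ H}, a ≠ b → R.t a ≠ R.t b := fun hab h => hab (R.t_injective h)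
  rcases R08.TetBasic.tri_mem R08.TetFi24C.facts.tr (t_mem R hL y) (t_mem R hL (x • y)) (t_mem R hL (x • x • y))
    (t_mem R hL y') (t_mem R hL (x • y')) (t_mem R hL (x • x • y')) h1.2 (R.com_symm h3.2) h2.2
    (inj h1.1) (inj h3.1.symm) (inj h2.1) h1'.2 (R.com_symm h3'.2) h2'.2 (inj h1'.1) (inj h3'.1.symm) (inj h2'.1) e
    with h4 | h4 | h4
  · exact Or.inl (R.t_injective h4)
  · exact Or.inr (Or.inl (R.t_injective h4))
  · exact Or.inr (Or.inr (R.t_injective h4))

include hL in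
theorem fo_sgn : Fischer.Fi24Final.sgn (fo R x y) = -1 := by
  unfold fo
  rw [map_mul, map_mul, R08.FiTwentyFour.sgn_L (t_mem R hL _), R08.FiTwentyFour.sgn_L (t_mem R hL _),
    R08.FiTwentyFour.sgn_L (t_mem R hL _)]
  decide

include hx hL in
/-- three points for each product -/
theorem ncard_three [Finite (Fi24 ⧸ H)] : ({y : Fi24 ⧸ H | Adj R y (x • y)} : Set (Fi24 ⧸ H)).ncard =
    3 * (fo R x '' {y : Fi24 ⧸ H | Adj R y (x • y)}).ncard := by
  classical
  have := Fintype.ofFinite (Fi24 ⧸ H)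
  set A : Finset (Fi24 ⧸ H) := Finset.univ.filter fun y => Adj R y (x • y) with hA
  have hmem : ∀ y, y ∈ A ↔ Adj R y (x • y) := fun y => by rw [hA, Finset.mem_filter]; simp
  have e1 : ({y : Fi24 ⧸ H | Adj R y (x • y)} : Set (Fi24 ⧸ H)) = (A : Set (Fi24 ⧸ H)) := by
    ext y
    rw [Finset.mem_coe, hmem]
    rfl
  rw [e1, ← Finset.coe_image, Set.ncard_coe_finset, Set.ncard_coe_finset, Finset.card_eq_sum_card_image (fo R x) A]
  rw [Finset.sum_congr rfl (g := fun _ => 3), Finset.sum_const, smul_eq_mul, mul_comm]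
  intro s hs
  obtain ⟨y, hy, rfl⟩ := Finset.mem_image.1 hs
  rw [hmem] at hy
  obtain ⟨h1, h2, h3⟩ := adj_all R hx hy
  have h4 := fo_smul R hx h1
  have h5 := fo_smul R hx h2
  rw [Finset.card_eq_three]
  refine ⟨y, x • y, x • x • y, h1.1, h3.1.symm, h2.1, ?_⟩
  ext z
  rw [Finset.mem_filter, hmem]
  simp only [Finset.mem_insert, Finset.mem_singleton]
  constructor
  · rintro ⟨h6, h7⟩
    exact fo_eq R hx hL hy h6 h7.symm
  · rintro (rfl | rfl | rfl)
    · exact ⟨h1, rfl⟩
    · exact ⟨h2, h4⟩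
    · refine ⟨?_, h5.trans h4⟩
      rw [smul3 hx]
      exact h3

end

/-- **An element of order 3 commuting with no transposition commutes with an involution of `Fi24'`.** -/
theorem exists_inv_of_not {x : Fi24} (hx : x ^ 3 = 1) (he : ∀ d ∈ L, d * x ≠ x * d) :
    ∃ s ∈ commutator Fi24, x * s = s * x ∧ s * s = 1 ∧ s ≠ 1 := by
  have hfin : Finite Fi24 := R08.FiTwentyFour.finite_Fi24
  by_contra hcon
  push Not at hcon
  set O : Subgroup Fi24 := centralizer ({x} : Set Fi24) ⊓ commutator Fi24 with hO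
  have hOodd : Odd (Nat.card O) := by
    by_contra hev
    rw [Nat.not_odd_iff_even, even_iff_two_dvd] at hev
    have : Fact (Nat.Prime 2) := ⟨Nat.prime_two⟩
    obtain ⟨s, hs⟩ := exists_prime_orderOf_dvd_card' 2 hev
    have h1 : s ^ 2 = 1 := by rw [← hs]; exact pow_orderOf_eq_one s
    have h2 : (s : Fi24) * s = 1 := by
      rw [pow_two] at h1
      exact congrArg Subtype.val h1
    have h3 : (s : Fi24) = 1 := hcon s s.2.2 (mem_centralizer_singleton_iff.1 s.2.1).symm h2
    have h4 : s = 1 := Subtype.ext h3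
    rw [h4, orderOf_one] at hs
    omega
  obtain ⟨R, h0, -, hL⟩ := facts.exists_rank3
  have hfX : ∀ y : Fi24 ⧸ Fischer.Fi24RepOrb.H, x • y ≠ y := by
    intro y h
    exact he (R.t y) (t_mem R hL y) ((R.smul_eq_iff_comm x y).1 h).symm
  obtain ⟨h1, y0, hy0⟩ := count24 R hL h0 hx hfX
  rw [ncard_three R hx hL, Nat.even_mul] at h1
  have h2 : Even (fo R x '' {y | Adj R y (x • y)}).ncard := by
    rcases h1 with h1 | h1
    · exact absurd h1 (by decide)
    · exact h1
  refine (Nat.not_even_iff_odd.2 (odd_of_conj hOodd (s0 := fo R x y0) ?_)) h2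
  ext s
  constructor
  · rintro ⟨y, hy, rfl⟩
    have k1 := fo_comm R hx hy
    have k2 := fo_comm R hx hy0
    have k3 : fo R x y * fo R x y0 ∈ O := by
      refine ⟨mem_centralizer_singleton_iff.2 ?_, ?_⟩
      · rw [mul_assoc, ← k2, ← mul_assoc, ← k1, mul_assoc]
      · refine R08.FiTwentyFour.mem_commutator_iff.2 ?_
        rw [map_mul, fo_sgn R hL, fo_sgn R hL]
        decide
    have k4 : Odd (orderOf (fo R x y * fo R x y0)) := by
      refine hOodd.of_dvd_nat ?_
      have h := orderOf_dvd_natCard (⟨_, k3⟩ : O)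
      rwa [Subgroup.orderOf_mk] at h
    obtain ⟨k, hk⟩ := conj_of_odd (fo_sq R hx hy) (fo_sq R hx hy0) k4
    exact ⟨_, pow_mem k3 k, hk⟩
  · rintro ⟨c, hc, rfl⟩
    have hcx : c * x = x * c := mem_centralizer_singleton_iff.1 hc.1
    refine ⟨c • y0, ?_, fo_conj R c hcx⟩
    show Adj R (c • y0) (x • c • y0)
    have e1 : x • c • y0 = c • x • y0 := by rw [← mul_smul, ← mul_smul, hcx]
    rw [e1, adj_smul]
    exact hy0

/-- the general case -/
theorem exists_inv24 {x : Fi24} (hx : x ^ 3 = 1) (hc : x ∈ commutator Fi24) :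
    ∃ s ∈ commutator Fi24, x * s = s * x ∧ s * s = 1 ∧ s ≠ 1 := by
  by_cases he : ∀ d ∈ L, d * x ≠ x * d
  · exact exists_inv_of_not hx he
  push Not at he
  obtain ⟨d, hd, hdx⟩ := he
  obtain ⟨c, rfl⟩ := isConj_iff.1 (show IsConj (gen .l) d from hd)
  -- `c⁻¹ x c` commutes with `l`
  have h1 : (c⁻¹ * x * c) * gen .l = gen .l * (c⁻¹ * x * c) := by
    calc (c⁻¹ * x * c) * gen .l = c⁻¹ * (x * (c * gen .l * c⁻¹)) * c := by group
      _ = c⁻¹ * ((c * gen .l * c⁻¹) * x) * c := by rw [hdx]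
      _ = _ := by group
  have hn : (commutator Fi24).Normal := inferInstance
  have h2 : c⁻¹ * x * c ∈ commutator Fi24 := by
    have := hn.conj_mem x hc c⁻¹
    rwa [inv_inv] at this
  obtain ⟨k, hk⟩ := (facts.mem_range_iff _).2 ⟨h1, R08.FiTwentyFour.mem_commutator_iff.1 h2⟩
  have hk3 : k ^ 3 = 1 := by
    apply facts.phi_injective
    rw [map_pow, hk, map_one]
    have := conj_pow (i := 3) (a := c⁻¹) (b := x)
    rw [inv_inv] at this
    rw [this, hx]
    group
  obtain ⟨s, hs1, hs2, hs3⟩ := even_Fi23_model k hk3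
  have hs4 : facts.phi s ∈ commutator Fi24 := R08.FiTwentyFour.mem_commutator_iff.2 (facts.sgn_phi s)
  refine ⟨c * facts.phi s * c⁻¹, hn.conj_mem _ hs4 c, ?_, ?_, ?_⟩
  · have h3 : (c⁻¹ * x * c) * facts.phi s = facts.phi s * (c⁻¹ * x * c) := by
      rw [← hk, ← map_mul, ← map_mul, hs1]
    calc x * (c * facts.phi s * c⁻¹) = c * ((c⁻¹ * x * c) * facts.phi s) * c⁻¹ := by group
      _ = c * (facts.phi s * (c⁻¹ * x * c)) * c⁻¹ := by rw [h3]
      _ = _ := by group
  · calc c * facts.phi s * c⁻¹ * (c * facts.phi s * c⁻¹) = c * (facts.phi s * facts.phi s) * c⁻¹ := by group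
      _ = 1 := by rw [← map_mul, hs2, map_one]; group
  · intro h3
    apply hs3
    apply facts.phi_injective
    rw [map_one]
    calc facts.phi s = c⁻¹ * (c * facts.phi s * c⁻¹) * c := by group
      _ = 1 := by rw [h3]; group

theorem even_Fi24_model [Finite Spor.Fi24'] (x : Spor.Fi24') (hx : orderOf x = 3) :
    Even (Nat.card ↥(centralizer ({x} : Set Spor.Fi24'))) := by
  have hx3 : x ^ 3 = 1 := by rw [← hx]; exact pow_orderOf_eq_one x
  obtain ⟨s, hs, h1, h2, h3⟩ := exists_inv24 (x := (x : Fi24)) (congrArg Subtype.val hx3) x.2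
  exact even_of_comm (s := ⟨s, hs⟩) (Subtype.ext h1) (Subtype.ext h2) fun h => h3 (congrArg Subtype.val h)

/-- **Every element of order 3 of `Fi24'` has a centralizer of even order.** -/
theorem even_Fi24 {K : Type*} [Group K] [Finite K] (h : Spor.IsoFi24' K) (x : K) (hx : orderOf x = 3) :
    Even (Nat.card ↥(centralizer ({x} : Set K))) := by
  obtain ⟨e⟩ := h
  have hfin : Finite Spor.Fi24' := Finite.of_equiv K e.toEquiv
  have h1 := even_Fi24_model (e x) ((orderOf_injective e.toMonoidHom e.injective x).trans hx)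
  have h2 : Nat.card ↥(centralizer ({x} : Set K)) = Nat.card ↥(centralizer ({e x} : Set Spor.Fi24')) := by
    refine Nat.card_congr (Equiv.subtypeEquiv e.toEquiv fun y => ?_)
    rw [mem_centralizer_singleton_iff]
    show _ ↔ e y ∈ centralizer ({e x} : Set Spor.Fi24')
    rw [mem_centralizer_singleton_iff, ← map_mul, ← map_mul, e.injective.eq_iff]
  rw [h2]
  exact h1

/-- **`Fi24'`.** -/
theorem noBad_Fi24 {K : Type*} [Group K] [Finite K] (h : Spor.IsoFi24' K) : NoBad 3 K := by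
  have he := even_Fi24 h
  obtain ⟨e⟩ := h
  have hfin : Finite Spor.Fi24' := Finite.of_equiv K e.toEquiv
  have hs : IsSimpleGroup Spor.Fi24' := R08.FiTwentyFour.isFi24'.1
  have hc : Nat.card Spor.Fi24' = 1255205709190661721292800 := R08.FiTwentyFour.isFi24'.2
  exact NoBad.congr e.symm (NoBad.of_even (by norm_num) (center_bot (by rw [hc]; norm_num)) CTwoTab.FiTF.compC2.bal
    fun x hx => even_Fi24_model x hx)

end Cfsg.Agent.H844.NB
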