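import Cfsg.Agent.H470.NoBad

/-!
# Elements of order 3 of Fischer's groups: general lemmas (helper844, for S3877)
-/

set_option autoImplicit false

namespace Cfsg.Agent.H844.NB

open Subgroup

/-- an involution in the centralizer -/
theorem even_of_comm {G : Type*} [Group G] [Finite G] {x s : G} (h : x * s = s * x) (h2 : s * s = 1) (h1 : s ≠ 1) :
    Even (Nat.card ↥(centralizer ({x} : Set G))) := by
  have hs : s ∈ centralizer ({x} : Set G) := mem_centralizer_singleton_iff.2 h.symm
  have h3 : orderOf s = 2 := orderOf_eq_prime (by rw [pow_two, h2]) h1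
  have h4 : orderOf (⟨s, hs⟩ : ↥(centralizer ({x} : Set G))) = 2 := by rw [Subgroup.orderOf_mk, h3]
  rw [even_iff_two_dvd, ← h4]
  exact orderOf_dvd_natCard _

theorem center_bot {G : Type*} [Group G] [Finite G] [IsSimpleGroup G] (h : ¬ (Nat.card G).Prime) :
    center G = ⊥ := by
  rcases (inferInstance : (center G).Normal).eq_bot_or_eq_top with h1 | h1
  · exact h1
  · exfalso
    apply h
    let _ : CommGroup G := Group.commGroupOfCenterEqTop h1
    exact IsSimpleGroup.prime_card

end Cfsg.Agent.H844.NB
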